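import Mathlib.RingTheory.Valuation.ValuationSubring
import Mathlib.RingTheory.AlgebraicIndependent.Basic
import Mathlib.RingTheory.KrullDimension.Basic
import Mathlib.Algebra.Field.Subfield.Basic
import Mathlib.Algebra.Ring.Subring.Basic
import Mathlib.Data.Nat.Prime.Basic
import Mathlib.RingTheory.Coprime.Lemmas
import Mathlib.RingTheory.Int.Basic
import Mathlib.Tactic.LinearCombination

/-!
# The rank of a valuation is bounded by the transcendence degree plus one
-/

universe u

open Finset

namespace Groth.Agent.ValDim26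

variable {K : Type u} [Field K] (A : ValuationSubring K)

theorem lt_of_mem_of_not_mem {P : Ideal A} {a b : A} (ha : a ∈ P) (hb : b ∉ P) :
    A.valuation (a : K) < A.valuation (b : K) := by
  by_contra h
  push Not at h
  obtain ⟨c, hc⟩ := (A.valuation_le_iff _ _).mp h
  exact hb (by rw [show b = c * a from Subtype.ext hc.symm]; exact P.mul_mem_left _ ha)

/-- Monomials in elements separated by a chain of primes have distinct valuations. -/
theorem monomial_injective {n : ℕ} (P : Fin (n + 1) → Ideal A) (hprime : ∀ i, (P i).IsPrime)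
    (hmono : Monotone P) (x : Fin n → A) (h1 : ∀ i : Fin n, x i ∈ P i.succ)
    (h2 : ∀ i : Fin n, x i ∉ P i.castSucc) :
    Function.Injective (fun E : Fin n → ℕ => A.valuation ((∏ i, x i ^ E i : A) : K)) := by
  classical
  intro E E' h
  by_contra hne
  have hex : ∃ i : ℕ, ∃ hi : i < n, E ⟨i, hi⟩ ≠ E' ⟨i, hi⟩ := by
    obtain ⟨i, hi⟩ := Function.ne_iff.mp hne
    exact ⟨i, i.2, hi⟩
  obtain ⟨i, hne_i, hlt_eq⟩ : ∃ i : Fin n, E i ≠ E' i ∧ ∀ j, j < i → E j = E' j := by
    obtain ⟨hi, hne_i⟩ := Nat.find_spec hex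
    refine ⟨⟨Nat.find hex, hi⟩, hne_i, fun j hj => ?_⟩
    have := Nat.find_min hex (m := (j : ℕ)) hj
    push Not at this
    exact this j.2
  clear hex
  wlog hgt : E' i < E i generalizing E E' with H
  · exact H h.symm (Ne.symm hne) (Ne.symm hne_i) (fun j hj => (hlt_eq j hj).symm)
      (lt_of_le_of_ne (not_lt.mp hgt) hne_i)
  let R : A := ∏ j ∈ univ.filter (fun j => i < j), x j ^ E j
  let R' : A := ∏ j ∈ univ.filter (fun j => i < j), x j ^ E' j
  let L : A := ∏ j ∈ univ.filter (fun j => j < i), x j ^ E j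
  have split : ∀ F : Fin n → ℕ, (∏ j, x j ^ F j) =
      (∏ j ∈ univ.filter (fun j => j < i), x j ^ F j) * x i ^ F i *
        ∏ j ∈ univ.filter (fun j => i < j), x j ^ F j := by
    intro F
    rw [← prod_filter_mul_prod_filter_not univ (fun j => j < i) (fun j => x j ^ F j), mul_assoc]
    congr 1
    rw [show univ.filter (fun j : Fin n => ¬ j < i) = insert i (univ.filter (fun j => i < j)) by
      ext j
      simp only [mem_filter, mem_univ, true_and, mem_insert, not_lt]
      rw [le_iff_eq_or_lt, eq_comm], prod_insert (by simp)]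
  have hL : L = ∏ j ∈ univ.filter (fun j => j < i), x j ^ E' j :=
    prod_congr rfl fun j hj => by rw [hlt_eq j (by simpa using hj)]
  have hne0 : ∀ F : Fin n → ℕ, ∀ s : Finset (Fin n), ((∏ j ∈ s, x j ^ F j : A) : K) ≠ 0 := by
    intro F s h0
    have h0' : (∏ j ∈ s, x j ^ F j : A) = 0 := Subtype.ext h0
    obtain ⟨j, -, hj⟩ := prod_eq_zero_iff.mp h0'
    exact h2 j (by rw [eq_zero_of_pow_eq_zero hj]; exact Ideal.zero_mem _)
  have key : A.valuation ((x i ^ E i * R : A) : K) < A.valuation ((x i ^ E' i * R' : A) : K) := by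
    obtain ⟨t, ht⟩ : ∃ t, E i = E' i + (t + 1) := ⟨E i - E' i - 1, by omega⟩
    rw [show x i ^ E i * R = x i ^ E' i * (x i ^ (t + 1) * R) by rw [ht, pow_add, mul_assoc]]
    simp only [MulMemClass.coe_mul, map_mul]
    refine mul_lt_mul_of_pos_left ?_ ((Valuation.pos_iff _).mpr ?_)
    · rw [← map_mul, ← MulMemClass.coe_mul]
      haveI := hprime i.succ
      refine lt_of_mem_of_not_mem A (P := P i.succ)
        (Ideal.mul_mem_right _ _ (Ideal.pow_mem_of_mem _ (h1 i) _ t.succ_pos)) fun hR => ?_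
      obtain ⟨j, hj, hjm⟩ := Ideal.IsPrime.prod_mem_iff.mp hR
      exact h2 j (hmono (Fin.succ_le_castSucc_iff.mpr (by simpa using hj))
        ((hprime i.succ).mem_of_pow_mem _ hjm))
    · have := hne0 (fun _ => E' i) {i}
      simpa using this
  have h' : A.valuation ((∏ j, x j ^ E j : A) : K) = A.valuation ((∏ j, x j ^ E' j : A) : K) := h
  rw [split E, split E', ← hL, mul_assoc, mul_assoc] at h'
  change A.valuation ((L * (x i ^ E i * R) : A) : K) =
    A.valuation ((L * (x i ^ E' i * R') : A) : K) at h'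
  have hmul : ∀ a b : A, A.valuation ((a * b : A) : K) = A.valuation (a : K) * A.valuation (b : K) :=
    fun a b => map_mul A.valuation (a : K) (b : K)
  rw [hmul L, hmul L] at h'
  exact key.ne (mul_left_cancel₀ ((Valuation.ne_zero_iff _).mpr (hne0 E _)) h')

/-- The bound for a chain and one exceptional index absorbing the valuations of the constants. -/
theorem chain_bound (F : Subfield K) {n : ℕ} (P : Fin (n + 2) → Ideal A) (hprime : ∀ i, (P i).IsPrime)
    (hmono : Monotone P) (x : Fin (n + 1) → A) (h1 : ∀ i, x i ∈ P i.succ)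
    (h2 : ∀ i, x i ∉ P i.castSucc) (i₀ : Fin (n + 1))
    (hc : ∀ c ∈ F, c ≠ 0 → A.valuation c ≤ 1 → ∃ k : ℕ, A.valuation c = A.valuation (x i₀ : K) ^ k) :
    (n : Cardinal.{u}) ≤ Algebra.trdeg F K := by
  classical
  have hinj := monomial_injective A P hprime hmono x h1 h2
  have hind : AlgebraicIndependent F (fun j : Fin n => (x (i₀.succAbove j) : K)) := by
    rw [algebraicIndependent_iff]
    intro p hp
    by_contra hp0
    obtain ⟨m₀, hm₀, hmax⟩ := p.support.exists_max_image
      (fun m => A.valuation ((p.coeff m : F) : K)) (MvPolynomial.support_nonempty.mpr hp0)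
    let c₀ : K := ((p.coeff m₀ : F) : K)
    have hc₀ : c₀ ≠ 0 := fun e => MvPolynomial.mem_support_iff.mp hm₀ (Subtype.ext e)
    have hcoef : ∀ m ∈ p.support, ∃ k : ℕ,
        A.valuation (((p.coeff m : F) : K) / c₀) = A.valuation (x i₀ : K) ^ k := by
      intro m hm
      refine hc _ (F.div_mem (p.coeff m).2 (p.coeff m₀).2)
        (div_ne_zero (fun e => MvPolynomial.mem_support_iff.mp hm (Subtype.ext e)) hc₀) ?_
      rw [map_div₀]
      exact div_le_one_of_le₀ (hmax m hm) zero_le'
    choose! k hk using hcoef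
    let E : (Fin n →₀ ℕ) → Fin (n + 1) → ℕ := fun m => i₀.insertNth (k m) (fun j => m j)
    let term : (Fin n →₀ ℕ) → K := fun m =>
      ((p.coeff m : F) : K) / c₀ * ∏ j : Fin n, (x (i₀.succAbove j) : K) ^ m j
    have hterm : ∀ m ∈ p.support,
        A.valuation (term m) = A.valuation ((∏ i, x i ^ E m i : A) : K) := by
      intro m hm
      rw [Fin.prod_univ_succAbove _ i₀]
      simp only [E, Fin.insertNth_apply_same, Fin.insertNth_apply_succAbove, term]
      push_cast
      rw [map_mul, map_mul, hk m hm, map_pow]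
    have hsum : ∑ m ∈ p.support, term m = 0 := by
      have e : ∀ m, term m = c₀⁻¹ * (((p.coeff m : F) : K) * ∏ j : Fin n, (x (i₀.succAbove j) : K) ^ m j) :=
        fun m => by simp only [term]; ring
      simp only [e, ← mul_sum]
      rw [MvPolynomial.aeval_def, MvPolynomial.eval₂_eq'] at hp
      rw [show ∑ m ∈ p.support, ((p.coeff m : F) : K) * ∏ j : Fin n, (x (i₀.succAbove j) : K) ^ m j = 0
        from hp, mul_zero]
    have hinjE : Set.InjOn (fun m => A.valuation (term m)) (p.support : Set (Fin n →₀ ℕ)) := by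
      intro a ha b hb hab
      simp only [hterm a ha, hterm b hb] at hab
      have := congrArg (fun G : Fin (n + 1) → ℕ => fun j => G (i₀.succAbove j)) (hinj hab)
      simp only [E, Fin.insertNth_apply_succAbove] at this
      exact Finsupp.ext fun j => congrFun this j
    obtain ⟨m, hm, hmmax⟩ := p.support.exists_max_image (fun m => A.valuation (term m))
      ⟨m₀, hm₀⟩
    have hv := A.valuation.map_sum_eq_of_lt (f := term) hm (fun j hj => by
      rw [Finset.mem_sdiff, Finset.mem_singleton] at hj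
      exact lt_of_le_of_ne (hmmax j hj.1) fun e => hj.2 (hinjE hj.1 hm e))
    rw [hsum, map_zero] at hv
    have hpos : A.valuation (term m) ≠ 0 := by
      rw [Valuation.ne_zero_iff]
      refine mul_ne_zero (div_ne_zero (fun e => MvPolynomial.mem_support_iff.mp hm (Subtype.ext e)) hc₀)
        (prod_ne_zero_iff.mpr fun j _ => pow_ne_zero _ fun e => h2 (i₀.succAbove j) ?_)
      rw [show x (i₀.succAbove j) = 0 from Subtype.ext e]
      exact Ideal.zero_mem _
    exact hpos hv.symm
  simpa using hind.lift_cardinalMk_le_trdeg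

theorem exists_step {α : Type*} {n : ℕ} (s : Fin (n + 1) → Set α) {a : α} (h0 : a ∉ s 0)
    (hl : a ∈ s (Fin.last n)) : ∃ i : Fin n, a ∈ s i.succ ∧ a ∉ s i.castSucc := by
  induction n with
  | zero => exact absurd hl h0
  | succ n ih =>
    by_cases h : a ∈ s (Fin.last n).castSucc
    · obtain ⟨i, hi, hi'⟩ := ih (fun j => s j.castSucc) h0 h
      exact ⟨i.castSucc, by rwa [Fin.succ_castSucc], hi'⟩
    · exact ⟨Fin.last n, by rwa [Fin.succ_last], h⟩

theorem int_valuation (hK : ∃ m : ℕ, (m : K) ≠ 0 ∧ A.valuation (m : K) < 1) :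
    ∃ q : ℕ, (q : K) ≠ 0 ∧ A.valuation (q : K) < 1 ∧
      ∀ a : ℤ, (a : K) ≠ 0 → ∃ k : ℕ, A.valuation (a : K) = A.valuation (q : K) ^ k := by
  classical
  obtain ⟨hq0, hq1⟩ := Nat.find_spec hK
  let q := Nat.find hK
  have hle : ∀ a : ℤ, A.valuation (a : K) ≤ 1 := fun a =>
    (A.valuation_le_one_iff _).mpr (intCast_mem A.toSubring a)
  have hone : ∀ m : ℕ, m < q → (m : K) ≠ 0 → A.valuation (m : K) = 1 := fun m hm hm0 =>
    le_antisymm (by simpa using hle m) (not_lt.mp fun h => Nat.find_min hK hm ⟨hm0, h⟩)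
  have hprime : q.Prime := by
    rw [Nat.prime_def_lt]
    refine ⟨?_, fun m hm hdvd => ?_⟩
    · by_contra h
      have : q = 0 ∨ q = 1 := by omega
      rcases this with h | h
      · exact hq0 (by show (q : K) = 0; rw [h]; simp)
      · exact absurd hq1 (by show ¬ A.valuation (q : K) < 1; rw [h]; simp)
    · obtain ⟨l, hl⟩ := hdvd
      by_contra hm1
      have hcast : (q : K) = (m : K) * l := by rw [hl]; push_cast; rfl
      have hm0 : (m : K) ≠ 0 := fun e => hq0 (by show (q : K) = 0; rw [hcast, e, zero_mul])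
      have hl0 : (l : K) ≠ 0 := fun e => hq0 (by show (q : K) = 0; rw [hcast, e, mul_zero])
      have hm0' : m ≠ 0 := fun e => hm0 (by rw [e]; simp)
      have hl' : l < q := by
        rw [hl]
        exact lt_mul_of_one_lt_left (Nat.pos_of_ne_zero fun e => hl0 (by rw [e]; simp)) (by omega)
      have : A.valuation (q : K) = 1 := by
        rw [hcast, map_mul, hone m hm hm0, hone l hl' hl0, one_mul]
      exact hq1.ne this
  refine ⟨q, hq0, hq1, fun a ha => ?_⟩
  have ha0 : a ≠ 0 := fun e => ha (by rw [e]; simp)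
  obtain ⟨k, m, hm, rfl⟩ : ∃ (k : ℕ) (m : ℤ), ¬ (q : ℤ) ∣ m ∧ a = (q : ℤ) ^ k * m :=
    WfDvdMonoid.max_power_factor ha0 (Nat.prime_iff_prime_int.mp hprime).irreducible
  refine ⟨k, ?_⟩
  obtain ⟨s, t, hst⟩ := (Nat.prime_iff_prime_int.mp hprime).coprime_iff_not_dvd.mpr hm
  have hm1 : A.valuation (m : K) = 1 := by
    refine le_antisymm (hle m) (not_lt.mp fun hlt => ?_)
    have : A.valuation ((s : K) * q + t * m) < 1 := by
      refine A.valuation.map_add_lt ?_ ?_
      · rw [map_mul]; exact lt_of_le_of_lt (mul_le_of_le_one_left' (hle s)) hq1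
      · rw [map_mul]; exact lt_of_le_of_lt (mul_le_of_le_one_left' (hle t)) hlt
    rw [show (s : K) * q + t * m = 1 by exact_mod_cast congrArg (Int.cast (R := K)) hst,
      map_one] at this
    exact this.false
  push_cast
  rw [map_mul, map_pow, hm1, mul_one]

theorem ringKrullDim_le (d : ℕ) (hd : Algebra.trdeg (⊥ : Subfield K) K = d) :
    ringKrullDim A ≤ ((d + 1 : ℕ) : WithBot ℕ∞) := by
  classical
  refine iSup_le fun s => ?_
  -- enlarge the chain so that it starts at `⊥` and ends at the maximal ideal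
  obtain ⟨s₁, h₁, hl₁⟩ : ∃ t : LTSeries (PrimeSpectrum A), t.head.asIdeal = ⊥ ∧ s.length ≤ t.length := by
    by_cases h : s.head.asIdeal = ⊥
    · exact ⟨s, h, le_rfl⟩
    · exact ⟨s.cons ⟨⊥, Ideal.isPrime_bot⟩ (bot_lt_iff_ne_bot.mpr h), by simp, by simp⟩
  obtain ⟨t, ht₀, ht₁, hlt⟩ : ∃ t : LTSeries (PrimeSpectrum A), t.head.asIdeal = ⊥ ∧
      t.last.asIdeal = IsLocalRing.maximalIdeal A ∧ s.length ≤ t.length := by
    by_cases h : s₁.last.asIdeal = IsLocalRing.maximalIdeal A
    · exact ⟨s₁, h₁, h, hl₁⟩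
    · exact ⟨s₁.snoc ⟨IsLocalRing.maximalIdeal A, inferInstance⟩
        (lt_of_le_of_ne (IsLocalRing.le_maximalIdeal s₁.last.2.ne_top) h), by simpa using h₁, by simp,
        hl₁.trans (by simp)⟩
  suffices t.length ≤ d + 1 by exact_mod_cast hlt.trans this
  rcases hn : t.length with _ | n
  · omega
  let P : Fin (n + 2) → Ideal A := fun i => (t (Fin.cast (by omega) i)).asIdeal
  have hP : StrictMono P := fun i j hij => t.strictMono hij
  have hP0 : P 0 = ⊥ := ht₀
  have hPl : P (Fin.last (n + 1)) = IsLocalRing.maximalIdeal A := by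
    rw [← ht₁]
    show (t _).asIdeal = (t (Fin.last t.length)).asIdeal
    congr 2
    exact Fin.ext (by simp [hn])
  choose x hx1 hx2 using fun i : Fin (n + 1) => SetLike.exists_of_lt (hP (Fin.castSucc_lt_succ (i := i)))
  have hbot : ∀ c ∈ (⊥ : Subfield K), ∃ a b : ℤ, c = a / b := by
    intro c hc
    rw [← Subfield.closure_empty, Subfield.mem_closure_iff] at hc
    obtain ⟨a, ha, b, hb, rfl⟩ := hc
    rw [Subring.closure_empty, Subring.mem_bot] at ha hb
    obtain ⟨a, rfl⟩ := ha
    obtain ⟨b, rfl⟩ := hb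
    exact ⟨a, b, rfl⟩
  suffices (n : Cardinal.{u}) ≤ Algebra.trdeg (⊥ : Subfield K) K by
    rw [hd] at this
    have := Nat.cast_le.mp this
    omega
  by_cases hK : ∃ m : ℕ, (m : K) ≠ 0 ∧ A.valuation (m : K) < 1
  · obtain ⟨q, hq0, hq1, hq⟩ := int_valuation A hK
    let qA : A := ⟨(q : K), natCast_mem A.toSubring q⟩
    obtain ⟨i₀, hi, hi'⟩ := exists_step (fun i => (P i : Set A)) (a := qA)
      (by rw [hP0]; exact fun e => hq0 (congrArg Subtype.val (Ideal.mem_bot.mp e)))
      (by rw [hPl]; exact (A.valuation_lt_one_iff qA).mpr hq1)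
    refine chain_bound A ⊥ P (fun i => (t _).2) hP.monotone (Function.update x i₀ qA) ?_ ?_ i₀ ?_
    · intro i
      rcases eq_or_ne i i₀ with rfl | h
      · rw [Function.update_self]; exact hi
      · rw [Function.update_of_ne h]; exact hx1 i
    · intro i
      rcases eq_or_ne i i₀ with rfl | h
      · rw [Function.update_self]; exact hi'
      · rw [Function.update_of_ne h]; exact hx2 i
    · intro c hc hc0 hc1
      rw [Function.update_self]
      obtain ⟨a, b, rfl⟩ := hbot c hc
      obtain ⟨ha, hb⟩ := (div_ne_zero_iff).mp hc0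
      obtain ⟨k, hk⟩ := hq a ha
      obtain ⟨l, hl⟩ := hq b hb
      have hpos : (0 : _) < A.valuation (q : K) := (Valuation.pos_iff _).mpr hq0
      have hkl : l ≤ k := by
        by_contra hcon
        push Not at hcon
        rw [map_div₀, hk, hl, div_le_one₀ (pow_pos hpos _)] at hc1
        exact not_lt.mpr hc1 (pow_lt_pow_right_of_lt_one₀ hpos hq1 hcon)
      refine ⟨k - l, ?_⟩
      rw [map_div₀, hk, hl, div_eq_iff (pow_pos hpos _).ne', ← pow_add, Nat.sub_add_cancel hkl]
  · refine chain_bound A ⊥ P (fun i => (t _).2) hP.monotone x hx1 hx2 0 fun c hc hc0 _ => ⟨0, ?_⟩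
    obtain ⟨a, b, rfl⟩ := hbot c hc
    obtain ⟨ha, hb⟩ := (div_ne_zero_iff).mp hc0
    have h1 : ∀ e : ℤ, (e : K) ≠ 0 → A.valuation (e : K) = 1 := by
      intro e he
      have hle := (A.valuation_le_one_iff _).mpr (intCast_mem A.toSubring e)
      obtain ⟨m, rfl | rfl⟩ := Int.eq_nat_or_neg e <;>
        simp only [Int.cast_natCast, Int.cast_neg] at he hle ⊢
      · exact le_antisymm hle (not_lt.mp fun hl => hK ⟨_, he, hl⟩)
      · rw [Valuation.map_neg] at hle ⊢
        exact le_antisymm hle (not_lt.mp fun hl => hK ⟨_, fun h0 => he (by rw [h0, neg_zero]), hl⟩)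
    rw [map_div₀, h1 a ha, h1 b hb, pow_zero, div_one]

end Groth.Agent.ValDim26
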